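import Cfsg.Agent.H936.AltBig2
import Cfsg.Agent.H264.CoverOver
import Mathlib
import Cfsg.Prelude.Def_GeometricClasses
import Cfsg.Agent.H371.AlgLemma_m3
import Cfsg.Agent.H861.ExtraRep
import Cfsg.Agent.H528.EP.UB3_m3
import Cfsg.Agent.S5542
import Cfsg.Agent.S2059
import Cfsg.Agent.S2085
import Cfsg.Agent.S1705
import Cfsg.Agent.FastGrp
import Cfsg.Agent.Prune
set_option linter.all false

section
prune_inst 0x7f00000000000000000000000000000000000000000000000000000000000000000000000000000000000000000000000000000000000000000000000000000000000000000000000000000000000000003fffffffffdfffffffffffffffffbeffbdffffffff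

-- part: H388/EP/Heis
section
set_option linter.all false
open scoped Cfsg.Agent.FastGrp

/-!
# A lower bound for degrees from a Heisenberg group of order `p ^ 3` with fused centre (helper388)

`heis_le`: `a, b, c` with `c` central of order `p`, `b a = a b c`, and elements `k i` with `c (k i) = (k i) c ^ (e i)`,
`e i` pairwise different and nonzero mod `p`: every representation (characteristic `≠ p`) with `c` acting nontrivially
has dimension at least `p * |ι|`.

`LS.of_rep`: `LS r d T` for a group `T` with trivial multiplier from the representations of `T` itself.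
-/

set_option autoImplicit false

universe u v w

namespace Cfsg.Agent.H388.EP

open Cfsg Cfsg.Agent.H203.LS

section

variable {G : Type u} [Group G] {K : Type w} [Field K] [IsAlgClosed K] {V : Type w} [AddCommGroup V] [Module K V]
  [FiniteDimensional K V]

theorem heis_le (ρ : G →* (V →ₗ[K] V)) {p : ℕ} (hp : p.Prime) (hpK : (p : K) ≠ 0) {a b c : G} (hc : c ^ p = 1)
    (hac : a * c = c * a) (hbc : b * c = c * b) (hba : b * a = a * b * c) (hρ : ρ c ≠ 1)
    {ι : Type} [Fintype ι] (k : ι → G) (e : ι → ℕ) (he : ∀ i, c * k i = k i * c ^ e i)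
    (hinj : Function.Injective fun i => (e i : ZMod p)) (he0 : ∀ i, (e i : ZMod p) ≠ 0) :
    Fintype.card ι * p ≤ Module.finrank K V := by
  classical
  have hfact : Fact p.Prime := ⟨hp⟩
  have hρc : ρ c ^ p = 1 := by rw [← map_pow, hc, map_one]
  obtain ⟨s, hs, v0, hv0, hv⟩ := exists_eigen (k := K) (V := V) hpK hρc hρ
  have hinvρ : ∀ (g : G) (v : V), v ≠ 0 → ρ g v ≠ 0 := by
    intro g v hv h
    apply hv
    have : ρ g⁻¹ (ρ g v) = v := by rw [← Module.End.mul_apply, ← map_mul, inv_mul_cancel, map_one, Module.End.one_apply]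
    rw [← this, h, map_zero]
  have hpow : ∀ (g : G) (t : K) (v : V), ρ g v = t • v → ∀ n : ℕ, ρ (g ^ n) v = t ^ n • v := by
    intro g t v h n
    induction n with
    | zero => simp
    | succ n ih => rw [pow_succ, map_mul, Module.End.mul_apply, h, map_smul, ih, smul_smul, pow_succ, mul_comm]
  -- `s` has order `p`
  have hsp : s ^ p = 1 := by
    have h1 := hpow c s v0 hv p
    rw [hc, map_one, Module.End.one_apply] at h1
    have h2 : (s ^ p - 1) • v0 = 0 := by rw [sub_smul, one_smul, ← h1, sub_self]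
    exact sub_eq_zero.1 ((smul_eq_zero.1 h2).resolve_right hv0)
  have hso : orderOf s = p := orderOf_eq_prime hsp hs
  have hpe : ∀ m n : ℕ, s ^ m = s ^ n → (m : ZMod p) = n := by
    intro m n h
    have hs0 : s ≠ 0 := by
      rintro rfl
      rw [zero_pow hp.ne_zero] at hsp
      exact zero_ne_one hsp
    have h1 : (Units.mk0 s hs0) ^ m = (Units.mk0 s hs0) ^ n := by
      apply Units.ext
      rw [Units.val_pow_eq_pow_val, Units.val_pow_eq_pow_val]
      exact h
    rw [pow_eq_pow_iff_modEq, ← orderOf_units, Units.val_mk0, hso] at h1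
    exact (ZMod.natCast_eq_natCast_iff _ _ _).2 h1
  -- joint eigenvectors
  have hE : ∀ i, ∃ (v : V) (μ : K), v ≠ 0 ∧ ρ c v = s ^ e i • v ∧ ρ a v = μ • v := by
    intro i
    have h1 : ρ (k i) v0 ∈ Module.End.eigenspace (ρ c) (s ^ e i) := by
      rw [Module.End.mem_eigenspace_iff, ← Module.End.mul_apply, ← map_mul, he, map_mul, Module.End.mul_apply,
        hpow c s v0 hv, map_smul]
    have hne : Module.End.eigenspace (ρ c) (s ^ e i) ≠ ⊥ := by
      intro h
      rw [h, Submodule.mem_bot] at h1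
      exact hinvρ _ _ hv0 h1
    have hinv : ∀ x ∈ Module.End.eigenspace (ρ c) (s ^ e i), ρ a x ∈ Module.End.eigenspace (ρ c) (s ^ e i) := by
      intro x hx
      rw [Module.End.mem_eigenspace_iff] at hx ⊢
      rw [← Module.End.mul_apply, ← map_mul, ← hac, map_mul, Module.End.mul_apply, hx, map_smul]
    have : Nontrivial (Module.End.eigenspace (ρ c) (s ^ e i)) := Submodule.nontrivial_iff_ne_bot.2 hne
    obtain ⟨μ, hμ⟩ := Module.End.exists_eigenvalue ((ρ a).restrict hinv)
    obtain ⟨x, hx⟩ := hμ.exists_hasEigenvector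
    refine ⟨x, μ, fun h => hx.2 (Subtype.ext h), Module.End.mem_eigenspace_iff.1 x.2, ?_⟩
    exact congrArg Subtype.val hx.apply_eq_smul
  choose v μ hv0' hvc hva using hE
  have hbj : ∀ j : ℕ, a * b ^ j = b ^ j * a * c ^ ((p - 1) * j) := by
    intro j
    have hcc : ∀ m : ℕ, c ^ m * c ^ ((p - 1) * m) = 1 := by
      intro m
      rw [← pow_add]
      have : m + (p - 1) * m = p * m := by
        have := hp.pos
        obtain ⟨q, rfl⟩ : ∃ q, p = q + 1 := ⟨p - 1, by omega⟩
        rw [Nat.add_sub_cancel]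
        ring
      rw [this, pow_mul, hc, one_pow]
    have hbc' : ∀ m : ℕ, c ^ m * b = b * c ^ m := fun m => ((show Commute b c from hbc).symm.pow_left m).eq
    have hac' : ∀ m : ℕ, c ^ m * a = a * c ^ m := fun m => ((show Commute a c from hac).symm.pow_left m).eq
    have h1 : ∀ j : ℕ, b ^ j * a = a * b ^ j * c ^ j := by
      intro j
      induction j with
      | zero => simp
      | succ j ih =>
        calc b ^ (j + 1) * a = b * (b ^ j * a) := by rw [pow_succ']; group
          _ = b * (a * b ^ j * c ^ j) := by rw [ih]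
          _ = (b * a) * b ^ j * c ^ j := by group
          _ = a * b * (c * b ^ j) * c ^ j := by rw [hba]; group
          _ = a * b * (b ^ j * c) * c ^ j := by
              rw [((show Commute b c from hbc).symm.pow_right j).eq]
          _ = _ := by rw [pow_succ', pow_succ']; group
    rw [h1, mul_assoc, hcc, mul_one]
  -- the weights
  have key := card_le_of_weights (k := K) (V := V) (ι := ι × Fin p) (J := Bool)
    (fun t => if t then ρ c else ρ a) (fun q => ρ (b ^ (q.2 : ℕ)) (v q.1))
    (fun q t => if t then s ^ e q.1 else (s ^ e q.1) ^ ((p - 1) * (q.2 : ℕ)) * μ q.1)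
    (fun q => hinvρ _ _ (hv0' q.1)) ?_ ?_
  · rwa [Nat.card_prod, Nat.card_eq_fintype_card, Nat.card_fin] at key
  · rintro ⟨i, j⟩ t
    cases t with
    | true =>
      simp only [if_true]
      rw [← Module.End.mul_apply, ← map_mul, ((show Commute b c from hbc).symm.pow_right (j : ℕ)).eq, map_mul,
        Module.End.mul_apply, hvc, map_smul]
    | false =>
      simp only [Bool.false_eq_true, if_false]
      rw [← Module.End.mul_apply, ← map_mul, hbj, map_mul, Module.End.mul_apply, hpow c _ _ (hvc i), map_smul, map_mul,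
        Module.End.mul_apply, hva, map_smul, smul_smul]
  · rintro ⟨i, j⟩ ⟨i', j'⟩ h
    have h1 : s ^ e i = s ^ e i' := by
      have := congrFun h true
      simpa using this
    have hi : i = i' := hinj (hpe _ _ h1)
    subst hi
    have h2 : (s ^ e i) ^ ((p - 1) * (j : ℕ)) * μ i = (s ^ e i) ^ ((p - 1) * (j' : ℕ)) * μ i := by
      have := congrFun h false
      simpa using this
    have hμ : μ i ≠ 0 := by
      intro h0
      apply hinvρ a (v i) (hv0' i)
      rw [hva, h0, zero_smul]
    have h3 := mul_right_cancel₀ hμ h2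
    rw [← pow_mul, ← pow_mul] at h3
    have h4 := hpe _ _ h3
    push_cast at h4
    have h5 : ((e i : ZMod p)) * (((p - 1 : ℕ)) : ZMod p) ≠ 0 := by
      refine mul_ne_zero (he0 i) ?_
      rw [Nat.cast_sub hp.one_lt.le, ZMod.natCast_self, Nat.cast_one, zero_sub]
      exact neg_ne_zero.2 one_ne_zero
    rw [← mul_assoc, ← mul_assoc] at h4
    have h6 := mul_left_cancel₀ h5 h4
    have h7 : (j : ℕ) = j' := by
      have := (ZMod.natCast_eq_natCast_iff _ _ _).1 h6
      exact Nat.ModEq.eq_of_lt_of_lt this j.2 j'.2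
    exact Prod.ext rfl (Fin.ext h7)

end

/-- groups with trivial multiplier: the representations of the group itself are enough -/
theorem ls_of_rep {r d : ℕ} {T : Type u} [Group T] (hT : HasCyclicSchurMultiplier T 1)
    (h : ∀ (K : Type w) [Field K] [IsAlgClosed K] (V : Type w) [AddCommGroup V] [Module K V]
      [FiniteDimensional K V] (ρ : T →* (V →ₗ[K] V)), (r : K) ≠ 0 → (∃ g, ρ g ≠ 1) → d ≤ Module.finrank K V) :
    LS.{u, v, w} r d T := by
  apply LS.of_core
  intro P _ π k _ _ V _ _ _ ρ hC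
  have h1 := Cfsg.Agent.H264.CoverOver.card_ker_dvd hT hC.perf π hC.surj hC.cen
  rw [Nat.card_congr (Multiplicative.toAdd (α := ZMod 1)), Nat.card_zmod, Nat.dvd_one] at h1
  have h2 : π.ker = ⊥ := Subgroup.card_eq_one.1 h1
  let e : P ≃* T := MulEquiv.ofBijective π ⟨(MonoidHom.ker_eq_bot_iff π).1 h2, hC.surj⟩
  refine h k V (ρ.comp e.symm.toMonoidHom) hC.rk ?_
  obtain ⟨g, hg⟩ := hC.ne
  exact ⟨e g, by
    show ρ (e.symm (e g)) ≠ 1
    rwa [e.symm_apply_apply]⟩

end Cfsg.Agent.H388.EP
end

-- part: H444/EP/Mon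
section
set_option linter.all false
open scoped Cfsg.Agent.FastGrp

-- part: H948/EP/Eig
section
/-!
# S3499: lower bounds for the dimension from one element of prime order (helper948)

`x ^ s = 1`, `x ≠ 1`, `s` a prime, `s ≠ 0` in the field `F` with `q` elements, `x ∈ GL_n(F)`.
* `ord_le` : `n` is at least the order of `q` modulo `s`;
* `ord_le_bil` : if `x` preserves a nondegenerate bilinear form, `n` is at least the order of `-q` modulo `s`;
* `ord_le_uni` : if `x` preserves a nondegenerate unitary form, `q = q₀ ^ 2`, `n` is at least the order of `-q₀` modulo `s`.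
-/

set_option autoImplicit false
set_option linter.unusedSectionVars false

namespace Cfsg.Agent.H948.EP

open Polynomial Matrix Cfsg Cfsg.Geo

section alg

variable {F : Type*} [Field F] {R : Type*} [Ring R] [Algebra F R] [Nontrivial R]

/-- an eigenvalue of order `s` -/
theorem exists_root {x : R} {s : ℕ} (hs : s.Prime) (hsF : (s : F) ≠ 0) (h1 : x ^ s = 1) (hne : x ≠ 1) :
    ∃ ζ : AlgebraicClosure F, IsPrimitiveRoot ζ s ∧ ∀ r : F[X], aeval x r = 0 → aeval ζ r = 0 := by
  classical
  have hint : IsIntegral F x := by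
    refine ⟨X ^ s - 1, monic_X_pow_sub_C 1 hs.ne_zero, ?_⟩
    rw [← aeval_def]
    simp [h1]
  have hdvd : minpoly F x ∣ X ^ s - 1 := minpoly.dvd F x (by simp [h1])
  have hfac : (X ^ s - 1 : F[X]) = (∑ i ∈ Finset.range s, X ^ i) * (X - 1) := (geom_sum_mul X s).symm
  have hsA : (s : AlgebraicClosure F) ≠ 0 := by
    intro h
    apply hsF
    apply (algebraMap F (AlgebraicClosure F)).injective
    rw [map_natCast, map_zero, h]
  by_contra hcon
  push Not at hcon
  -- every root of the minimal polynomial is `1`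
  have hroot : ∀ ζ : AlgebraicClosure F, aeval ζ (minpoly F x) = 0 → ζ = 1 := by
    intro ζ hζ
    by_contra hζ1
    have h2 : ζ ^ s = 1 := by
      obtain ⟨c, hc⟩ := hdvd
      have h3 := congrArg (aeval ζ) hc
      rw [map_mul, hζ, zero_mul] at h3
      simp only [map_sub, map_pow, aeval_X, map_one] at h3
      exact sub_eq_zero.1 h3
    have hFs : Fact s.Prime := ⟨hs⟩
    have h3 : IsPrimitiveRoot ζ s := by
      have h4 := orderOf_eq_prime h2 hζ1
      rw [← h4]
      exact IsPrimitiveRoot.orderOf ζ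
    obtain ⟨r, hr, hr2⟩ := hcon ζ h3
    apply hr2
    obtain ⟨c, hc⟩ := minpoly.dvd F x hr
    rw [hc, map_mul, hζ, zero_mul]
  have hcop : IsCoprime (minpoly F x) (∑ i ∈ Finset.range s, X ^ i) := by
    rw [← Polynomial.isCoprime_map (algebraMap F (AlgebraicClosure F))]
    by_contra hnc
    obtain ⟨ζ, hz1, hz2⟩ : ∃ ζ : AlgebraicClosure F, aeval ζ (minpoly F x) = 0 ∧
        aeval ζ (∑ i ∈ Finset.range s, X ^ i : F[X]) = 0 := by
      have hg : ¬ IsUnit (EuclideanDomain.gcd ((minpoly F x).map (algebraMap F (AlgebraicClosure F)))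
          ((∑ i ∈ Finset.range s, X ^ i : F[X]).map (algebraMap F (AlgebraicClosure F)))) := fun hu =>
        hnc ((EuclideanDomain.gcd_isUnit_iff).1 hu)
      have hd : (EuclideanDomain.gcd ((minpoly F x).map (algebraMap F (AlgebraicClosure F)))
          ((∑ i ∈ Finset.range s, X ^ i : F[X]).map (algebraMap F (AlgebraicClosure F)))).degree ≠ 0 := by
        intro h0
        apply hg
        rw [Polynomial.isUnit_iff_degree_eq_zero]
        exact h0
      obtain ⟨ζ, hζ⟩ := IsAlgClosed.exists_root _ hd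
      refine ⟨ζ, ?_, ?_⟩
      · rw [aeval_def, ← eval_map]
        exact eval_eq_zero_of_dvd_of_eval_eq_zero (EuclideanDomain.gcd_dvd_left _ _) hζ
      · rw [aeval_def, ← eval_map]
        exact eval_eq_zero_of_dvd_of_eval_eq_zero (EuclideanDomain.gcd_dvd_right _ _) hζ
    have h3 := hroot ζ hz1
    rw [h3] at hz2
    simp at hz2
    exact hsA hz2
  have h2 : minpoly F x ∣ X - 1 := by
    rw [hfac] at hdvd
    exact hcop.dvd_of_dvd_mul_left hdvd
  apply hne
  obtain ⟨c, hc⟩ := h2
  have h3 := congrArg (aeval x) hc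
  rw [map_mul, minpoly.aeval, zero_mul] at h3
  simp only [map_sub, aeval_X, map_one] at h3
  exact sub_eq_zero.1 h3

/-- `u` is a multiplier of `x`: every polynomial killing `x` kills `x ^ u` -/
def Mul' (F : Type*) [Field F] {R : Type*} [Ring R] [Algebra F R] (x : R) (u : ℕ) : Prop :=
  ∀ r : F[X], aeval x r = 0 → aeval (x ^ u) r = 0

omit [Nontrivial R] in
theorem aeval_pow' (x : R) (u : ℕ) (r : F[X]) : aeval (x ^ u) r = aeval x (expand F u r) := by
  rw [expand_aeval]

omit [Nontrivial R] in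
theorem Mul'.mul {x : R} {u v : ℕ} (hu : Mul' F x u) (hv : Mul' F x v) : Mul' F x (u * v) := by
  intro r hr
  rw [pow_mul, aeval_pow' (x ^ u)]
  have h1 : aeval x (expand F v r) = 0 := by
    rw [← aeval_pow']
    exact hv r hr
  exact hu _ h1

omit [Nontrivial R] in
theorem Mul'.one (x : R) : Mul' F x 1 := fun r hr => by rwa [pow_one]

omit [Nontrivial R] in
theorem Mul'.pow {x : R} {u : ℕ} (hu : Mul' F x u) (i : ℕ) : Mul' F x (u ^ i) := by
  induction i with
  | zero => rw [pow_zero]; exact Mul'.one x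
  | succ i ih => rw [pow_succ]; exact ih.mul hu

/-- **The bound.** -/
theorem orderOf_le {x : R} {s : ℕ} (hs : s.Prime) (hsF : (s : F) ≠ 0) (h1 : x ^ s = 1) (hne : x ≠ 1) {u : ℕ}
    (hu : Mul' F x u) {r : F[X]} (hr0 : r ≠ 0) (hr : aeval x r = 0) : orderOf (u : ZMod s) ≤ r.natDegree := by
  classical
  obtain ⟨ζ, hζ, hζr⟩ := exists_root hs hsF h1 hne
  have hFs : Fact s.Prime := ⟨hs⟩
  have hmem : ∀ i : ℕ, ζ ^ (u ^ i) ∈ r.rootSet (AlgebraicClosure F) := by
    intro i
    rw [mem_rootSet]
    refine ⟨hr0, ?_⟩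
    rw [← expand_aeval]
    apply hζr
    rw [expand_aeval]
    exact hu.pow i r hr
  have hinj : Set.InjOn (fun i : ℕ => ζ ^ (u ^ i)) (Finset.range (orderOf (u : ZMod s))) := by
    intro i hi j hj hij
    rw [Finset.coe_range, Set.mem_Iio] at hi hj
    have h2 : ζ ^ (u ^ i) = ζ ^ (u ^ j) := hij
    have h3 : (u : ZMod s) ^ i = (u : ZMod s) ^ j := by
      rw [← Nat.cast_pow, ← Nat.cast_pow, ZMod.natCast_eq_natCast_iff, Nat.ModEq]
      have hm : ∀ k : ℕ, ζ ^ k = ζ ^ (k % s) := by
        intro k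
        conv_lhs => rw [← Nat.div_add_mod k s, pow_add, pow_mul, hζ.pow_eq_one, one_pow, one_mul]
      rw [hm (u ^ i), hm (u ^ j)] at h2
      exact hζ.pow_inj (Nat.mod_lt _ hs.pos) (Nat.mod_lt _ hs.pos) h2
    exact pow_injOn_Iio_orderOf hi hj h3
  have hcard : ((Finset.range (orderOf (u : ZMod s))).image fun i => ζ ^ (u ^ i)).card = orderOf (u : ZMod s) := by
    rw [Finset.card_image_of_injOn hinj, Finset.card_range]
  rw [← hcard]
  have hsub : ((Finset.range (orderOf (u : ZMod s))).image fun i => ζ ^ (u ^ i)) ⊆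
      (r.map (algebraMap F (AlgebraicClosure F))).roots.toFinset := by
    intro y hy
    rw [Finset.mem_image] at hy
    obtain ⟨i, -, rfl⟩ := hy
    have h6 := hmem i
    rw [mem_rootSet] at h6
    rw [Multiset.mem_toFinset, mem_roots (Polynomial.map_ne_zero h6.1), IsRoot.def, eval_map, ← aeval_def]
    exact h6.2
  refine (Finset.card_le_card hsub).trans ((Multiset.toFinset_card_le _).trans ?_)
  refine (card_roots' _).trans ?_
  rw [natDegree_map]

variable [Fintype F]

omit [Nontrivial R] in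
/-- `q` is a multiplier -/
theorem mul_card (x : R) : Mul' F x (Fintype.card F) := by
  intro r hr
  rw [aeval_pow', FiniteField.expand_card, map_pow, hr, zero_pow Fintype.card_ne_zero]

end alg

section mat

variable {ι : Type} [Fintype ι] [DecidableEq ι] {F : Type*} [Field F] [Fintype F]

theorem le_of_mul {x : Matrix ι ι F} {s : ℕ} (hs : s.Prime) (hsF : (s : F) ≠ 0) (h1 : x ^ s = 1) (hne : x ≠ 1) {u : ℕ}
    (hu : Mul' F x u) : orderOf (u : ZMod s) ≤ Fintype.card ι := by
  have : Nontrivial (Matrix ι ι F) := nontrivial_of_ne _ _ hne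
  have h2 := orderOf_le hs hsF h1 hne hu (r := x.charpoly) (Matrix.charpoly_monic x).ne_zero (Matrix.aeval_self_charpoly x)
  rwa [Matrix.charpoly_natDegree_eq_dim] at h2

/-- **`n ≥ ord_s(q)`** -/
theorem ord_le {x : Matrix ι ι F} {s : ℕ} (hs : s.Prime) (hsF : (s : F) ≠ 0) (h1 : x ^ s = 1) (hne : x ≠ 1) :
    orderOf ((Fintype.card F : ℕ) : ZMod s) ≤ Fintype.card ι :=
  le_of_mul hs hsF h1 hne (mul_card x)

/-! ### forms -/

theorem fix_pow {f : (ι → F) → (ι → F) → F} {x : Matrix ι ι F} (hx : ∀ u v, f (x *ᵥ u) (x *ᵥ v) = f u v) (k : ℕ) (u v : ι → F) :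
    f ((x ^ k) *ᵥ u) ((x ^ k) *ᵥ v) = f u v := by
  induction k generalizing u v with
  | zero => rw [pow_zero, Matrix.one_mulVec, Matrix.one_mulVec]
  | succ k ih => rw [pow_succ, ← Matrix.mulVec_mulVec, ← Matrix.mulVec_mulVec, ih, hx]

theorem adj {f : (ι → F) → (ι → F) → F} {x : Matrix ι ι F} (hx : ∀ u v, f (x *ᵥ u) (x *ᵥ v) = f u v) {s : ℕ}
    (hs0 : 0 < s) (h1 : x ^ s = 1) (u v : ι → F) : f ((x ^ (s - 1)) *ᵥ u) v = f u (x *ᵥ v) := by
  rw [← hx ((x ^ (s - 1)) *ᵥ u) v, Matrix.mulVec_mulVec, ← pow_succ', Nat.sub_add_cancel hs0, h1, Matrix.one_mulVec]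

theorem adj_pow {f : (ι → F) → (ι → F) → F} {x : Matrix ι ι F} (hx : ∀ u v, f (x *ᵥ u) (x *ᵥ v) = f u v) {s : ℕ}
    (hs0 : 0 < s) (h1 : x ^ s = 1) (k : ℕ) (u v : ι → F) :
    f (((x ^ (s - 1)) ^ k) *ᵥ u) v = f u ((x ^ k) *ᵥ v) := by
  rw [← pow_mul, mul_comm, pow_mul]
  have h2 : (x ^ k) ^ s = 1 := by rw [← pow_mul, mul_comm, pow_mul, h1, one_pow]
  exact adj (fix_pow hx k) hs0 h2 u v

/-- `f(r(x⁻¹) u, v) = f(u, r^σ(x) v)` -/
theorem adj_poly {f : (ι → F) → (ι → F) → F} (σ : F →+* F) (hal : ∀ x y v, f (x + y) v = f x v + f y v)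
    (hsl : ∀ (c : F) (x v : ι → F), f (c • x) v = c * f x v)
    (har : ∀ v x y, f v (x + y) = f v x + f v y) (hsr : ∀ (c : F) (v x : ι → F), f v (σ c • x) = c * f v x)
    {x : Matrix ι ι F} (hx : ∀ u v, f (x *ᵥ u) (x *ᵥ v) = f u v) {s : ℕ} (hs0 : 0 < s) (h1 : x ^ s = 1) (r : F[X])
    (u v : ι → F) : f ((aeval (x ^ (s - 1)) r) *ᵥ u) v = f u ((aeval x (r.map σ)) *ᵥ v) := by
  induction r using Polynomial.induction_on' with
  | add p q hp hq => rw [map_add, Polynomial.map_add, map_add, Matrix.add_mulVec, Matrix.add_mulVec, hal, har, hp, hq]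
  | monomial k a =>
    rw [Polynomial.map_monomial, aeval_monomial, aeval_monomial, ← Algebra.smul_def, ← Algebra.smul_def,
      Matrix.smul_mulVec, Matrix.smul_mulVec, hsl, hsr, adj_pow hx hs0 h1]

theorem eq_zero_of {f : (ι → F) → (ι → F) → F} (hal : ∀ x y v, f (x + y) v = f x v + f y v)
    (hnd : IsNondegenerateForm f) {M : Matrix ι ι F} (h : ∀ u v, f (M *ᵥ u) v = 0) : M = 0 := by
  have h1 : ∀ u, M *ᵥ u = 0 := by
    intro u
    by_contra hu
    obtain ⟨-, v, hv⟩ := hnd _ hu
    exact hv (h u v)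
  ext i j
  have h2 := congrFun (h1 (Pi.single j 1)) i
  rwa [Matrix.mulVec_single_one] at h2

theorem zero_right {f : (ι → F) → (ι → F) → F} (har : ∀ v x y, f v (x + y) = f v x + f v y) (v : ι → F) : f v 0 = 0 := by
  have := har v 0 0
  rw [add_zero] at this
  exact left_eq_add.1 this

/-- `-1` is a multiplier -/
theorem mul_neg_one {f : (ι → F) → (ι → F) → F} (hf : IsBilinearForm f) (hnd : IsNondegenerateForm f)
    {x : Matrix ι ι F} (hx : ∀ u v, f (x *ᵥ u) (x *ᵥ v) = f u v) {s : ℕ} (hs0 : 0 < s) (h1 : x ^ s = 1) :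
    Mul' F x (s - 1) := by
  intro r hr
  refine eq_zero_of hf.add_left hnd fun u v => ?_
  rw [adj_poly (RingHom.id F) hf.add_left hf.smul_left hf.add_right (fun c v x => hf.smul_right c v x) hx hs0 h1,
    Polynomial.map_id, hr, Matrix.zero_mulVec, zero_right hf.add_right]

/-- `-q₀` is a multiplier -/
theorem mul_neg_q {q : ℕ} (hq : Fintype.card F = q ^ 2) {σ : F ≃+* F} {f : (ι → F) → (ι → F) → F} (hf : IsUnitaryForm σ f)
    {x : Matrix ι ι F} (hx : ∀ u v, f (x *ᵥ u) (x *ᵥ v) = f u v) {s : ℕ} (hs0 : 0 < s) (h1 : x ^ s = 1) :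
    Mul' F x (q * (s - 1)) := by
  have hσ : ∀ a, σ a = a ^ q := by
    refine H371.Alg.eq_pow_of_involutive (σ : F →+* F) hf.involutive ?_ (by rw [Nat.card_eq_fintype_card, hq, pow_two])
    by_contra hcon
    push Not at hcon
    exact hf.ne_refl (RingEquiv.ext hcon)
  have har : ∀ v x y, f v (x + y) = f v x + f v y := by
    intro v x y
    rw [hf.herm, hf.add_left, map_add, ← hf.herm, ← hf.herm]
  have hsr : ∀ (c : F) (v x : ι → F), f v (σ c • x) = c * f v x := by
    intro c v x
    rw [hf.herm, hf.smul_left, map_mul, hf.involutive, ← hf.herm]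
  -- `q` is a power of the characteristic
  obtain ⟨p, hp⟩ := CharP.exists F
  obtain ⟨n, hpp, hn⟩ := FiniteField.card F p
  have hFp : Fact p.Prime := ⟨hpp⟩
  obtain ⟨k, -, hk⟩ := (Nat.dvd_prime_pow hpp).1 (show q ∣ p ^ (n : ℕ) by rw [← hn, hq]; exact dvd_pow_self q two_ne_zero)
  intro r hr
  rw [pow_mul]
  have h2 : (x ^ q) ^ s = 1 := by rw [← pow_mul, mul_comm, pow_mul, h1, one_pow]
  refine eq_zero_of hf.add_left hf.nondegenerate fun u v => ?_
  rw [adj_poly (σ : F →+* F) hf.add_left hf.smul_left har hsr (fix_pow hx q) hs0 h2]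
  have h3 : aeval (x ^ q) (r.map (σ : F →+* F)) = 0 := by
    rw [aeval_pow']
    have h4 : expand F q (r.map (σ : F →+* F)) = r ^ q := by
      rw [← Polynomial.map_expand]
      have h5 : (σ : F →+* F) = iterateFrobenius F p k := by
        ext a
        rw [iterateFrobenius_def, ← hk]
        exact hσ a
      rw [h5, hk, Polynomial.map_iterateFrobenius_expand]
    rw [h4, map_pow, hr, zero_pow]
    rintro rfl
    have := Fintype.card_pos (α := F)
    rw [hq] at this
    simp at this
  rw [h3, Matrix.zero_mulVec, zero_right har]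

/-- **`n ≥ ord_s(-q)`**, bilinear form -/
theorem ord_le_bil {f : (ι → F) → (ι → F) → F} (hf : IsBilinearForm f) (hnd : IsNondegenerateForm f)
    {x : Matrix ι ι F} (hx : ∀ u v, f (x *ᵥ u) (x *ᵥ v) = f u v) {s : ℕ} (hs : s.Prime) (hsF : (s : F) ≠ 0)
    (h1 : x ^ s = 1) (hne : x ≠ 1) : orderOf (-((Fintype.card F : ℕ) : ZMod s)) ≤ Fintype.card ι := by
  have h2 := le_of_mul hs hsF h1 hne ((mul_card x).mul (mul_neg_one hf hnd hx hs.pos h1))
  rwa [Nat.cast_mul, Nat.cast_sub hs.one_lt.le, Nat.cast_one, ZMod.natCast_self, zero_sub, mul_neg, mul_one] at h2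

/-- **`n ≥ ord_s(-q₀)`**, unitary form -/
theorem ord_le_uni {q : ℕ} (hq : Fintype.card F = q ^ 2) {σ : F ≃+* F} {f : (ι → F) → (ι → F) → F} (hf : IsUnitaryForm σ f)
    {x : Matrix ι ι F} (hx : ∀ u v, f (x *ᵥ u) (x *ᵥ v) = f u v) {s : ℕ} (hs : s.Prime) (hsF : (s : F) ≠ 0)
    (h1 : x ^ s = 1) (hne : x ≠ 1) : orderOf (-(q : ZMod s)) ≤ Fintype.card ι := by
  have h2 := le_of_mul hs hsF h1 hne (mul_neg_q hq hf hx hs.pos h1)
  rwa [Nat.cast_mul, Nat.cast_sub hs.one_lt.le, Nat.cast_one, ZMod.natCast_self, zero_sub, mul_neg, mul_one] at h2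

end mat

end Cfsg.Agent.H948.EP
end

-- part: H444/EP/Mon
section
/-!
# S3499, layer V, the socle `M` (helper444, task 6099)

* `card_Q_le` : `|Q| ≤ 2 ^ 1092`;
* odd characteristic: `2^{1+24}` gives dimension at least 4096;
* `|F| = 2 ^ f` : the elements of order 59 and 71.
-/

set_option autoImplicit false

namespace Cfsg.Agent.H444.EP.Mon

open Cfsg Cfsg.Agent.H203.LS Cfsg.Agent.H419.EP Cfsg.Agent.H284 Cfsg.Agent.H59.EP Cfsg.Agent.H388.EP
  Cfsg.Agent.H528.EP

universe v w

/-! ### the Monster -/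

theorem card_M : Nat.card Spor.Monster = 808017424794512875886459904961710757005754368000000000 := S1705.result.2

theorem simple_M : IsSimpleGroup Spor.Monster := S1705.result.1

theorem card_aut_M : Nat.card (MulAut Spor.Monster) ∣ Nat.card Spor.Monster := by
  have h1 : (Inn Spor.Monster).index = 1 := S2085.result
  have h2 : Function.Surjective (MulAut.conj : Spor.Monster →* MulAut Spor.Monster) := by
    rw [← MonoidHom.range_eq_top]
    exact Subgroup.index_eq_one.1 h1
  exact Subgroup.card_dvd_of_surjective _ h2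

theorem noncomm_M : ¬ ∀ a b : Spor.Monster, a * b = b * a := by
  intro hcomm
  have hsim := simple_M
  have hfin : Finite Spor.Monster := Nat.finite_of_card_ne_zero (by rw [card_M]; norm_num)
  let _ : CommGroup Spor.Monster := { (inferInstance : Group Spor.Monster) with mul_comm := hcomm }
  have h1 : (Nat.card Spor.Monster).Prime := IsSimpleGroup.prime_card
  have h2 : 2 ∣ Nat.card Spor.Monster := by rw [card_M]; norm_num
  have h3 := (Nat.prime_dvd_prime_iff_eq Nat.prime_two h1).1 h2
  rw [card_M] at h3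
  omega

/-- a nontrivial representation of a simple group is faithful -/
theorem rep_inj' {G : Type*} [Group G] (hG : IsSimpleGroup G) {K V : Type*} [Field K] [AddCommGroup V] [Module K V]
    (ρ : G →* (V →ₗ[K] V)) (h : ∃ g, ρ g ≠ 1) : Function.Injective ρ := by
  have h1 : Function.Injective ρ.toHomUnits := by
    rw [← MonoidHom.ker_eq_bot_iff]
    rcases (MonoidHom.normal_ker ρ.toHomUnits).eq_bot_or_eq_top with h1 | h1
    · exact h1
    · exfalso
      obtain ⟨g, hg⟩ := h
      apply hg
      have h2 : g ∈ ρ.toHomUnits.ker := by rw [h1]; exact Subgroup.mem_top _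
      exact congrArg Units.val (MonoidHom.mem_ker.1 h2)
  intro a b hab
  exact h1 (Units.ext hab)

/-- degrees in odd characteristic -/
theorem ls_two : LS.{0, v, w} 2 4096 Spor.Monster := by
  refine ls_of_rep S2059.result ?_
  intro K _ _ V _ _ _ ρ h2 hρ
  obtain ⟨z, Q, _, ⟨-, -, hE, hc, -⟩, -⟩ := S5542.result
  exact H861.ExtraRep.dim_bound (w := 12) hE hc (by exact_mod_cast h2)
    ((ρ.comp (Subgroup.subtype _)).comp (Subgroup.subtype _))
    ((rep_inj' simple_M ρ hρ).comp ((Subgroup.subtype_injective _).comp (Subgroup.subtype_injective _)))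

/-! ### numbers -/

/-- the factorisation of the order -/
def l : List (ℕ × ℕ) := [(2, 46), (3, 20), (5, 9), (7, 6), (11, 2), (13, 3), (17, 1), (19, 1), (23, 1), (29, 1), (31, 1),
  (41, 1), (47, 1), (59, 1), (71, 1)]

theorem prod_l : (l.map fun x => x.1 ^ x.2).prod = 808017424794512875886459904961710757005754368000000000 := by
  decide +kernel

theorem prime_l : ∀ x ∈ l, x.1.Prime ∧ 0 < x.2 := by
  intro x hx
  simp only [l, List.mem_cons, List.not_mem_nil, or_false] at hx
  rcases hx with rfl | rfl | rfl | rfl | rfl | rfl | rfl | rfl | rfl | rfl | rfl | rfl | rfl | rfl | rfl <;>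
    exact ⟨by norm_num, by norm_num⟩

theorem gal_l : galSum 808017424794512875886459904961710757005754368000000000 ≤ 2 ^ 558 := by
  rw [← prod_l, (galSum_list l prime_l (by decide)).1]
  have h1 : (l.map fun x => gal x.1 x.2).sum ≤ (l.map fun x => x.2 * x.1 ^ ((x.2 + 1) ^ 2 / 4)).sum := by
    apply List.sum_le_sum
    intro x hx
    exact gal_le (prime_l x hx).1.two_le
  refine h1.trans ?_
  decide +kernel

theorem ub_l : ubQ 808017424794512875886459904961710757005754368000000000 (2 ^ 558) ≤ 2 ^ 1092 := by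
  decide +kernel

theorem eight : 8 * 2 ^ 1092 = 2 ^ 1095 := by decide +kernel

/-! ### the order of `Q` -/

section

variable {Q : Type} [Group Q] [Finite Q] {A : Subgroup Q} {Γ : Subgroup (MulAut Q)} {ι : Type} [Fintype ι]
    [DecidableEq ι] {F : Type} [Field F] [Fintype F] {S P : Subgroup (GL ι F)}

theorem card_Q_le (hg : TwoGen.{0}) (b : Big A Γ S P) (e : socle P ≃* Spor.Monster) : Nat.card Q ≤ 2 ^ 1092 := by
  obtain ⟨f, hf⟩ := (b.hasSoc' e).exists_hom
  have hA : Nat.card A ∣ 808017424794512875886459904961710757005754368000000000 := by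
    rw [← card_M]
    exact (Subgroup.card_dvd_of_injective f hf).trans card_aut_M
  exact (EPT.card_le_gen b.simple b.ept hg
    (fun K k1 k2 k3 => (b.hasSoc' e).no_abelian simple_M noncomm_M k1 k2 k3) (by norm_num) hA (by norm_num) gal_l).trans ub_l

/-- lower bounds for projective degrees apply to the core -/
theorem le_of_ls (b : Big A Γ S P) {L : Type} [Group L] (e : socle P ≃* L) {r d : ℕ} (h : LS.{0, 0, 0} r d L)
    (hr : (r : F) ≠ 0) : d ≤ Fintype.card ι := by
  classical
  have hfin : Finite P := inferInstance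
  let π : P →* L := e.toMonoidHom.comp (QuotientGroup.mk' ((Cfsg.Geo.scalars ι F).subgroupOf P))
  have hker : π.ker = (Cfsg.Geo.scalars ι F).subgroupOf P := by
    ext x
    rw [MonoidHom.mem_ker]
    show e (QuotientGroup.mk' _ x) = 1 ↔ _
    rw [map_eq_one_iff e e.injective]
    exact QuotientGroup.eq_one_iff x
  let ρ : P →* GL (Fin (Fintype.card ι)) F :=
    (Units.mapEquiv (Matrix.reindexAlgEquiv F F (Fintype.equivFin ι) :
      Matrix ι ι F ≃ₐ[F] _).toMulEquiv).toMonoidHom.comp P.subtype
  refine h P π (e.surjective.comp (QuotientGroup.mk'_surjective _)) ?_ ?_ F hr (Fintype.card ι) ρ ?_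
  · rw [hker]
    intro x hx
    rw [Subgroup.mem_center_iff]
    intro y
    apply Subtype.ext
    obtain ⟨c, hc⟩ := (Cfsg.Geo.mem_scalars_iff _).1 (Subgroup.mem_subgroupOf.1 hx)
    apply Units.ext
    show ((y : GL ι F) : Matrix ι ι F) * ((x : GL ι F) : Matrix ι ι F) =
      ((x : GL ι F) : Matrix ι ι F) * ((y : GL ι F) : Matrix ι ι F)
    rw [hc, Matrix.mul_smul, Matrix.smul_mul, mul_one, one_mul]
  · have h1 := b.core.perfect
    apply Subgroup.map_injective P.subtype_injective
    rw [commutator_def, Subgroup.map_commutator, ← MonoidHom.range_eq_map, Subgroup.range_subtype]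
    exact h1
  · intro h1
    apply b.core.nonabelian
    have h2 : ∀ x : P, x = 1 := by
      intro x
      have h3 := DFunLike.congr_fun h1 x
      apply P.subtype_injective
      apply (Units.mapEquiv (Matrix.reindexAlgEquiv F F (Fintype.equivFin ι) :
        Matrix ι ι F ≃ₐ[F] _).toMulEquiv).injective
      rw [map_one, map_one]
      exact h3
    constructor
    constructor
    intro x y
    obtain ⟨x, rfl⟩ := QuotientGroup.mk_surjective x
    obtain ⟨y, rfl⟩ := QuotientGroup.mk_surjective y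
    rw [h2 x, h2 y]

/-- an element of prime order `s` of the socle gives `(card F) ^ m ≡ 1 (mod s)` with `0 < m ≤ n` -/
theorem exists_pow (_b : Big A Γ S P) {L : Type} [Group L] (e : socle P ≃* L) {s : ℕ} (hs : s.Prime)
    (hsF : (s : F) ≠ 0) (hsL : s ∣ Nat.card L) :
    ∃ m : ℕ, 0 < m ∧ m ≤ Fintype.card ι ∧ ((Fintype.card F : ℕ) : ZMod s) ^ m = 1 := by
  have hfact : Fact s.Prime := ⟨hs⟩
  have hfin : Finite P := inferInstance
  have h1 : s ∣ Nat.card P := by
    refine hsL.trans ?_
    rw [← Nat.card_congr e.toEquiv]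
    exact Subgroup.card_quotient_dvd_card _
  obtain ⟨x, hx⟩ := exists_prime_orderOf_dvd_card' s h1
  have hx1 : ((x : GL ι F) : Matrix ι ι F) ^ s = 1 := by
    have h2 : x ^ s = 1 := by rw [← hx, pow_orderOf_eq_one]
    have h3 := congrArg (fun y : P => ((y : GL ι F) : Matrix ι ι F)) h2
    simpa using h3
  have hx2 : ((x : GL ι F) : Matrix ι ι F) ≠ 1 := by
    intro h2
    have h3 : x = 1 := Subtype.ext (Units.ext h2)
    rw [h3, orderOf_one] at hx
    exact hs.one_lt.ne hx
  have h4 := H948.EP.ord_le hs hsF hx1 hx2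
  refine ⟨_, ?_, h4, pow_orderOf_eq_one _⟩
  rw [orderOf_pos_iff, isOfFinOrder_iff_pow_eq_one]
  have hne : ((Fintype.card F : ℕ) : ZMod s) ≠ 0 := by
    intro h5
    rw [ZMod.natCast_eq_zero_iff] at h5
    apply hsF
    obtain ⟨p, hp, f, -, hf⟩ : ∃ p : ℕ, p.Prime ∧ ∃ f : ℕ+, True ∧ Fintype.card F = p ^ (f : ℕ) := by
      obtain ⟨p, hcp⟩ := CharP.exists F
      obtain ⟨f, hp, hf⟩ := FiniteField.card F p
      exact ⟨p, hp, f, trivial, hf⟩
    have h6 : s = p := by
      rw [hf] at h5
      exact (Nat.prime_dvd_prime_iff_eq hs hp).1 (hs.dvd_of_dvd_pow h5)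
    obtain ⟨p', hcp⟩ := CharP.exists F
    obtain ⟨f', hp', hf'⟩ := FiniteField.card F p'
    have h7 : p' = p := by
      have h8 : p' ∣ p ^ (f : ℕ) := by
        rw [← hf, hf']
        exact dvd_pow_self p' f'.2.ne'
      exact (Nat.prime_dvd_prime_iff_eq hp' hp).1 (hp'.dvd_of_dvd_pow h8)
    rw [h6, ← h7]
    exact CharP.cast_eq_zero F p'
  exact ⟨s - 1, by have := hs.two_le; omega, ZMod.pow_card_sub_one_eq_one hne⟩

/-- **The socle `M` in the residual class, dimension at least 13.** -/
theorem row_M (hg : TwoGen.{0}) (b : Big A Γ S P) (h : Spor.IsoM (socle P)) : False := by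
  obtain ⟨e⟩ := h
  have hQ := card_Q_le hg b e
  by_cases h2 : (2 : F) = 0
  · -- characteristic 2
    have hcp : CharP F 2 := by
      obtain ⟨p, hp⟩ := CharP.exists F
      have h3 : p ∣ 2 := (CharP.cast_eq_zero_iff F p 2).1 (by exact_mod_cast h2)
      rcases (Nat.dvd_prime Nat.prime_two).1 h3 with rfl | rfl
      · exact absurd ((CharP.cast_eq_zero_iff F 1 1).2 dvd_rfl) (by rw [Nat.cast_one]; exact one_ne_zero)
      · exact hp
    obtain ⟨f, -, hf⟩ := FiniteField.card F 2
    have hf0 : 0 < (f : ℕ) := f.2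
    have hodd : ∀ s : ℕ, ¬ 2 ∣ s → (s : F) ≠ 0 := fun s hs h0 => hs ((CharP.cast_eq_zero_iff F 2 s).1 h0)
    have hord := b.ord
    rw [hf, ← pow_mul] at hord
    have key : (f : ℕ) * (Fintype.card ι * (Fintype.card ι - 1) / 2) ≤ 1095 := by
      by_contra hcon
      push Not at hcon
      have h3 : 2 ^ 1096 ≤ 8 * Nat.card Q := (Nat.pow_le_pow_right (by norm_num) hcon).trans hord
      have h4 : 8 * Nat.card Q ≤ 2 ^ 1095 := by
        calc 8 * Nat.card Q ≤ 8 * 2 ^ 1092 := Nat.mul_le_mul_left 8 hQ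
          _ = 2 ^ 1095 := eight
      have h5 : 2 ^ 1096 ≤ 2 ^ 1095 := h3.trans h4
      rw [Nat.pow_le_pow_iff_right (by norm_num)] at h5
      omega
    have hmono : ∀ k : ℕ, k ≤ Fintype.card ι → (f : ℕ) * (k * (k - 1) / 2) ≤ 1095 := by
      intro k hk
      refine (Nat.mul_le_mul_left _ ?_).trans key
      apply Nat.div_le_div_right
      exact Nat.mul_le_mul hk (by omega)
    -- the element of order 59
    obtain ⟨m, hm0, hmn, hm⟩ := exists_pow b e (by norm_num : Nat.Prime 59) (hodd 59 (by norm_num))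
      (by rw [card_M]; norm_num)
    have h59 : 58 ∣ (f : ℕ) * m := by
      rw [hf] at hm
      push_cast at hm
      rw [← pow_mul] at hm
      have h3 : orderOf (2 : ZMod 59) = 58 := by
        have hfact : Fact (Nat.Prime 59) := ⟨by norm_num⟩
        apply orderOf_eq_of_pow_and_pow_div_prime (by norm_num)
        · decide
        · intro p hp hpd
          have : p ∈ Nat.primeFactors 58 := Nat.mem_primeFactors.2 ⟨hp, hpd, by norm_num⟩
          have h4 : Nat.primeFactors 58 = {2, 29} := by decide +kernel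
          rw [h4] at this
          simp only [Finset.mem_insert, Finset.mem_singleton] at this
          rcases this with rfl | rfl <;> decide
      rw [← h3]
      exact orderOf_dvd_of_pow_eq_one hm
    have h13 := hmono 13 b.thirteen
    by_cases h29 : 29 ∣ (f : ℕ)
    · have := Nat.le_of_dvd hf0 h29
      norm_num at h13
      omega
    · have h30 : 29 ∣ m := by
        have h31 : 29 ∣ (f : ℕ) * m := dvd_trans (by norm_num) h59
        exact ((Nat.Prime.dvd_mul (by norm_num)).1 h31).resolve_left h29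
      have h32 : 29 ≤ m := Nat.le_of_dvd hm0 h30
      have h33 := hmono 29 (h32.trans hmn)
      norm_num at h33
      have hf2 : (f : ℕ) ≤ 2 := by omega
      have hf12 : (f : ℕ) = 1 ∨ (f : ℕ) = 2 := by omega
      rcases hf12 with hf1 | hf1
      · rw [hf1, one_mul] at h59
        have h34 := Nat.le_of_dvd hm0 h59
        have h35 := hmono 58 (h34.trans hmn)
        rw [hf1] at h35
        norm_num at h35
      · -- the element of order 71
        obtain ⟨m', hm0', hmn', hm'⟩ := exists_pow b e (by norm_num : Nat.Prime 71) (hodd 71 (by norm_num))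
          (by rw [card_M]; norm_num)
        rw [hf, hf1] at hm'
        have h71 : 35 ∣ m' := by
          have h3 : orderOf (((2 ^ 2 : ℕ) : ZMod 71)) = 35 := by
            have hfact : Fact (Nat.Prime 71) := ⟨by norm_num⟩
            apply orderOf_eq_of_pow_and_pow_div_prime (by norm_num)
            · decide
            · intro p hp hpd
              have : p ∈ Nat.primeFactors 35 := Nat.mem_primeFactors.2 ⟨hp, hpd, by norm_num⟩
              have h4 : Nat.primeFactors 35 = {5, 7} := by decide +kernel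
              rw [h4] at this
              simp only [Finset.mem_insert, Finset.mem_singleton] at this
              rcases this with rfl | rfl <;> decide
          rw [← h3]
          exact orderOf_dvd_of_pow_eq_one hm'
        have h34 := Nat.le_of_dvd hm0' h71
        have h35 := hmono 35 (h34.trans hmn')
        rw [hf1] at h35
        norm_num at h35
  · have hn := le_of_ls b e ls_two (by exact_mod_cast h2)
    have h3 := b.ord_two (N := 64) (by omega)
    have h4 : 8 * Nat.card Q ≤ 2 ^ 1095 := by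
      calc 8 * Nat.card Q ≤ 8 * 2 ^ 1092 := Nat.mul_le_mul_left 8 hQ
        _ = 2 ^ 1095 := eight
    have h5 := h3.trans h4
    rw [Nat.pow_le_pow_iff_right (by norm_num)] at h5
    norm_num at h5

end

end Cfsg.Agent.H444.EP.Mon
end

private theorem dce_bfe2cb0ffa18 : _root_.True := by
  try have : _root_.True := by simp only [_root_.Cfsg.Agent.H444.EP.Mon.l.eq_1]
  exact _root_.True.intro
end
end
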